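import Cfsg.Agent.Lib.Grp.McL.D0

set_option autoImplicit false
set_option maxRecDepth 100000
set_option Elab.async false

namespace Cfsg.Agent.CG.McL

noncomputable def tabs : List ℕ := [t0,t1,t2,t3,t4,t5,t6,t7,t8,t9,t10,t11,t12,t13,t14,t15,t16,t17,t18,t19,t20,t21,t22,t23,t24,t25,t26,t27,t28,t29,t30,t31,t32,t33,t34,t35,t36,t37,t38,t39,t40,t41,t42,t43,t44,t45,t46,t47,t48,t49,t50,t51,t52,t53,t54,t55,t56,t57,t58,t59,t60,t61,t62,t63,t64,t65,t66]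
noncomputable abbrev app : ℕ → ℕ → ℕ := appT tabs t67 0xfff
noncomputable def slpL : List (Bool × List ℕ) := [(false,[]),
  (false,[]),
  (false,[]),
  (false,[0,2]),
  (true,[3]),
  (false,[0]),
  (false,[3]),
  (true,[6]),
  (false,[0,3,1,3,5,4,2,4,0]),
  (false,[8,6,6,6,8,6,8]),
  (true,[9]),
  (false,[9,6,10,7,9,8,6]),
  (true,[11]),
  (false,[12,10,8,6,11,8,12]),
  (true,[13]),
  (false,[8,10,10,14,6,13,9,8,9,12,6]),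
  (true,[15]),
  (false,[7,9,11,10,14,12,13,8,6,8,13]),
  (true,[17]),
  (false,[14,7,9,14,12,7,8,10,11,8]),
  (true,[19]),
  (false,[20,16,7,12,6,6,9,14,8,13,8,14,8]),
  (true,[21]),
  (false,[18,20,15,7,11,13,9,8,9,13,6,9,6,8,13]),
  (true,[23]),
  (false,[15,17,20,6,11,7,9,12,8,10,14,10,8]),
  (true,[25]),
  (false,[22,22,16,16,20,9,12,12,13,13,12,10,7,8,6,8]),
  (true,[27]),
  (false,[21,21,16,16,20,17,7,11,13,11,6,13,12,13,8,10,13]),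
  (true,[29]),
  (false,[29,27,22,22,15,20,16,10,13,11,14,8,11,8,14,14,6,8]),
  (true,[31]),
  (false,[32,30,28,29,21,23,15,18,7,11,14,6,13,11,9,8,11,14]),
  (false,[32,29,27,22,22,17,15,19,13,11,10,11,7,13,8,7,10,6]),
  (false,[33,34,33,30,28,28,24,25,22,16,18,18,12,8,12,14,8,13,13,8,9,8,6]),
  (true,[35]),
  (false,[35]),
  (true,[37]),
  (false,[34,33,36]),
  (true,[39]),
  (false,[33,35]),
  (false,[31,33,34,33]),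
  (true,[42]),
  (false,[27,29,31,36]),
  (false,[26,23,28,30,31,33,34,33,36]),
  (false,[17,20,17,26,23,22,29,27,31,33,34]),
  (false,[11,6,8,15,19,19,15,22,26,23,29,27,29,31,35]),
  (false,[19,18,22,29,33,34,36]),
  (false,[9,14,7,17,17,19,26,23,22,27,30,27,33,34,35]),
  (true,[49]),
  (false,[14,14,17,15,20,22,26,23,29,31,34,36]),
  (false,[13,9,7,16,20,16,26,21,33,34]),
  (false,[12,7,18,19,23,29,33,34,33,36]),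
  (true,[53]),
  (false,[11,10,7,20,15,15,22,29,28,30]),
  (true,[55]),
  (false,[18,19,15,21,29,27,30,31,35]),
  (true,[57]),
  (false,[17,20,17,22,26,23,29,28,30,33,34,33]),
  (true,[59]),
  (false,[22,25,24,30,27,29,31,34,33]),
  (true,[61]),
  (false,[30,27,30,27,36]),
  (false,[6,6]),
  (true,[64]),
  (false,[9,11,18,20,20,22,26,23,29,27,31,33,36])]
noncomputable def slp (a : ℕ) : Bool × List ℕ := nth slpL (false, []) a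
noncomputable def invL : List ℕ := [0,2,1,4,3,5,7,6,8,10,9,12,11,14,13,16,15,18,17,20,19,22,21,24,23,26,25,28,27,30,29,32,31,33,34,36,35,38,37,40,39,41,43,42,44,45,46,47,48,50,49,51,52,54,53,56,55,58,57,60,59,62,61,63,65,64,66]
noncomputable def inv (a : ℕ) : ℕ := nth invL 67 a
noncomputable def bs : List ℕ := [24,1320,2316,936,2172,168,984]
noncomputable def mc0 : Lvl := ⟨24, [6,7,8,9,10,11,12,13,14], 275,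
  fun i => look 0xfff mc0c (Nat.mul 12 i), fun i => look 0xfff mc0p (Nat.mul 12 i),
  fun i => look 255 mc0l (Nat.mul 8 i), fun i => look 255 mc0i (Nat.mul 8 i), fun x => look 0xfff mc0q x, 4⟩
noncomputable def mc1 : Lvl := ⟨1320, [15,16,17,18,19,20], 112,
  fun i => look 0xfff mc1c (Nat.mul 12 i), fun i => look 0xff mc1p (Nat.mul 8 i),
  fun i => look 255 mc1l (Nat.mul 8 i), fun i => look 255 mc1i (Nat.mul 8 i), fun x => look 0xfff mc1q x, 4⟩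
noncomputable def mc2 : Lvl := ⟨2316, [21,22,23,24,25,26], 30,
  fun i => look 0xfff mc2c (Nat.mul 12 i), fun i => look 0xff mc2p (Nat.mul 8 i),
  fun i => look 255 mc2l (Nat.mul 8 i), fun i => look 255 mc2i (Nat.mul 8 i), fun x => look 0xfff mc2q x, 3⟩
noncomputable def mc3 : Lvl := ⟨936, [27,28,29,30], 27,
  fun i => look 0xfff mc3c (Nat.mul 12 i), fun i => look 0xff mc3p (Nat.mul 8 i),
  fun i => look 255 mc3l (Nat.mul 8 i), fun i => look 255 mc3i (Nat.mul 8 i), fun x => look 0xfff mc3q x, 4⟩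
noncomputable def mc4 : Lvl := ⟨2172, [31,32], 2,
  fun i => look 0xfff mc4c (Nat.mul 12 i), fun i => look 0xf mc4p (Nat.mul 4 i),
  fun i => look 255 mc4l (Nat.mul 8 i), fun i => look 255 mc4i (Nat.mul 8 i), fun x => look 0xfff mc4q x, 1⟩
noncomputable def mc5 : Lvl := ⟨168, [33,34], 6,
  fun i => look 0xfff mc5c (Nat.mul 12 i), fun i => look 0xf mc5p (Nat.mul 4 i),
  fun i => look 255 mc5l (Nat.mul 8 i), fun i => look 255 mc5i (Nat.mul 8 i), fun x => look 0xfff mc5q x, 3⟩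
noncomputable def mc6 : Lvl := ⟨984, [35,36], 3,
  fun i => look 0xfff mc6c (Nat.mul 12 i), fun i => look 0xf mc6p (Nat.mul 4 i),
  fun i => look 255 mc6l (Nat.mul 8 i), fun i => look 255 mc6i (Nat.mul 8 i), fun x => look 0xfff mc6q x, 1⟩
noncomputable def mc : List Lvl := [mc0, mc1, mc2, mc3, mc4, mc5, mc6]
noncomputable def tcR : List (List ℕ) := [[37,38],
  [38,37],
  [37,37,37],
  [39,40],
  [40,39],
  [41,41],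
  [39,39,39],
  [40,37,39,38],
  [41,37,41,37],
  [39,41,39,41],
  [42,43],
  [43,42],
  [42,42,41],
  [43,37,42,38,40],
  [44,44],
  [44,39,44,39],
  [44,41,44,41,44,41],
  [44,38,44,37,44,37,44,38],
  [44,43,44,43,44,43,44,43],
  [44,42,44,37,44,43,44,37,39],
  [45,45],
  [45,41,45,41],
  [45,40,45,39,45,40,41],
  [45,43,38,44,45,41,44,37,42],
  [45,37,39,45,38,45,41,43,44,37,44],
  [38,45,44,38,41,44,45,37,44],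
  [46,46],
  [46,39,46,39,46,39],
  [46,44,46,44,46,44],
  [46,45,46,45,46,45],
  [43,39,37,42,37],
  [46,37,46,38,46,39,41],
  [46,41,37,40,46,38,39,41],
  [46,44,41,44,46,44,45,44],
  [47,47],
  [47,44,47,44,47,44],
  [47,41,37,40,47,38,39,41],
  [47,38,47,37,47,38,47,37],
  [47,41,47,39,47,37,47,38,40],
  [47,40,44,47,44,39,47,40,44],
  [47,42,40,45,40,42,47,46],
  [47,38,46,38,47,41,44,37,42,45,44,45],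
  [47,40,42,46,41,47,43,44,38,43,45,38,44],
  [47,45,42,40,45,38,47,37,40,46,43,46,38],
  [45,47,45,46,43,44,38,46,41,39,47,45,39],
  [39,45,43,40,45,39,42,45,44]]
noncomputable def tc0T : List ℕ := [0,0,0,0,0,0,0,0,0,0,0,0,0,0,0,0,0,0,0,0,0,0,0,0,0,0,0,0,0,0,0,0,0,0,0,0,0,tc0t37,tc0t38,tc0t39,tc0t40,tc0t41,tc0t42,tc0t43,tc0t44,tc0t45,tc0t46,tc0t47]
noncomputable def tc0r : Tr Rule := (.node (.node (.node (.node (.node (.node (.node (.node (.leaf ⟨47,[47],34,1⟩) (.leaf ⟨47,[38,47,37,47,38,47,37],37,4⟩)) (.leaf ⟨40,[41,45,40,45,39,45],22,5⟩)) (.node (.node (.leaf ⟨39,[39,39],6,1⟩) (.leaf ⟨45,[43,38,44,45,41,44,37,42],23,0⟩)) (.leaf ⟨39,[44,39,44],15,1⟩))) (.node (.node (.node (.leaf ⟨42,[41,42],12,1⟩) (.leaf ⟨46,[37,46,38,46,39,41],31,0⟩)) (.leaf ⟨45,[37,39,45,38,45,41,43,44,37,44],24,0⟩)) (.node (.leaf ⟨41,[37,40,47,38,39,41,47],36,1⟩)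 (.leaf ⟨41,[44,41,44,41,44],16,5⟩)))) (.node (.node (.node (.node (.leaf ⟨44,[44],14,1⟩) (.leaf ⟨46,[45,46,45,46,45],29,0⟩)) (.leaf ⟨38,[40,43,37,42],13,3⟩)) (.node (.node (.leaf ⟨38,[47,37,47,38,47,37,47],37,5⟩) (.leaf ⟨38,[39,41,46,41,37,40,46],32,5⟩)) (.leaf ⟨44,[43,44,43,44,43,44,43],18,4⟩))) (.node (.node (.node (.leaf ⟨37,[42,38,40,43],13,1⟩) (.leaf ⟨47,[37,47,38,47,37,47,38],37,2⟩)) (.leaf ⟨41,[44,41,44,41,44],16,3⟩)) (.node (.leaf ⟨44,[39,44,39],15,2⟩) (.leaf ⟨47,[41,37,40,47,38,39,41],36,0⟩))))) (.node (.node (.node (.node (.node (.leaf ⟨39,[40],3,0⟩) (.leaf ⟨44,[46,44,45,44,46,44,41],33,3⟩)) (.leaf ⟨38,[46,39,41,46,37,46],31,3⟩)) (.node (.node (.leaf ⟨37,[37,37],2,1⟩) (.leaf ⟨44,[41,44,41,44,41],16,4⟩)) (.leaf ⟨46,[45,46,45,46,45],29,4⟩))) (.node (.node (.node (.leaf ⟨40,[37,39,38],7,0⟩) (.leaf ⟨47,[44,47,44,47,44],35,0⟩))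 (.leaf ⟨45,[43,40,45,39,42,45,44,39],45,1⟩)) (.node (.leaf ⟨41,[47,41,37,40,47,38,39],36,7⟩) (.leaf ⟨47,[44,47,44,47,44],35,2⟩)))) (.node (.node (.node (.node (.leaf ⟨37,[39,38,40],7,1⟩) (.leaf ⟨40,[44,47,40,44,47,44,39,47],39,7⟩)) (.leaf ⟨39,[45,47,45,46,43,44,38,46,41,39,47,45],44,12⟩)) (.node (.leaf ⟨39,[47,37,47,38,40,47,41,47],38,3⟩) (.leaf ⟨37,[39,44,42,44,37,44,43,44],19,7⟩))) (.node (.node (.node (.leaf ⟨39,[41,39,41],9,2⟩) (.leaf ⟨44,[47,44,47,44,47],35,5⟩)) (.leaf ⟨44,[39,44,39],15,0⟩)) (.node (.leaf ⟨45,[46,45,46,45,46],29,3⟩) (.leaf ⟨45,[39,45,40,41,45,40],22,2⟩)))))) (.node (.node (.node (.node (.node (.node (.leaf ⟨37,[38],0,0⟩) (.leaf ⟨37,[42,45,43,38,44,45,41,44],23,7⟩)) (.leaf ⟨46,[41,47,43,44,38,43,45,38,44,47,40,42],42,3⟩)) (.node (.node (.leaf ⟨41,[39,41,39],9,1⟩) (.leaf ⟨43,[44,43,44,43,44,43,44],18,5⟩))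 (.leaf ⟨46,[44,45,44,46,44,41,44],33,4⟩))) (.node (.node (.node (.leaf ⟨41,[42,42],12,2⟩) (.leaf ⟨46,[39,41,46,37,46,38],31,4⟩)) (.leaf ⟨44,[39,45,43,40,45,39,42,45],45,8⟩)) (.node (.leaf ⟨37,[41,37,41],8,1⟩) (.leaf ⟨45,[40,41,45,40,45,39],22,4⟩)))) (.node (.node (.node (.node (.leaf ⟨46,[46],26,1⟩) (.leaf ⟨40,[47,38,39,41,47,41,37],36,3⟩)) (.leaf ⟨40,[45,38,47,37,40,46,43,46,38,47,45,42],43,3⟩)) (.node (.node (.leaf ⟨47,[37,47,38,47,37,47,38],37,6⟩) (.leaf ⟨42,[46,41,47,43,44,38,43,45,38,44,47,40],42,2⟩)) (.leaf ⟨42,[38,40,43,37],13,2⟩))) (.node (.node (.node (.leaf ⟨43,[37,42,38,40],13,0⟩) (.leaf ⟨44,[38,45,44,38,41,44,45,37],25,8⟩)) (.leaf ⟨44,[45,44,46,44,41,44,46],33,5⟩)) (.node (.leaf ⟨45,[40,42,47,46,47,42,40],40,3⟩) (.leaf ⟨45,[46,45,46,45,46],29,5⟩))))) (.node (.node (.node (.node (.node (.leaf ⟨43,[42],10,1⟩)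 (.leaf ⟨46,[44,46,44,46,44],28,0⟩)) (.leaf ⟨37,[46,38,46,39,41,46],31,1⟩)) (.node (.node (.leaf ⟨39,[41,46,41,37,40,46,38],32,6⟩) (.leaf ⟨42,[40,45,40,42,47,46,47],40,1⟩)) (.leaf ⟨43,[44,43,44,43,44,43,44],18,3⟩))) (.node (.node (.node (.leaf ⟨41,[37,41,37],8,0⟩) (.leaf ⟨40,[46,38,39,41,46,41,37],32,3⟩)) (.leaf ⟨39,[45,43,40,45,39,42,45,44],45,0⟩)) (.node (.leaf ⟨44,[47,40,44,47,44,39,47,40],39,8⟩) (.leaf ⟨46,[41,37,40,46,38,39,41],32,0⟩)))) (.node (.node (.node (.node (.leaf ⟨39,[44,39,44],15,3⟩) (.leaf ⟨39,[46,39,46,39,46],27,5⟩)) (.leaf ⟨38,[44,38,44,37,44,37,44],17,7⟩)) (.node (.leaf ⟨41,[47,39,47,37,47,38,40,47],38,1⟩) (.leaf ⟨41,[44,45,37,44,38,45,44,38],25,4⟩))) (.node (.node (.node (.leaf ⟨39,[41,47,41,37,40,47,38],36,6⟩) (.leaf ⟨47,[41,47,39,47,37,47,38,40],38,0⟩)) (.leaf ⟨44,[38,44,37,44,37,44,38],17,0⟩))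 (.node (.leaf ⟨46,[39,46,39,46,39],27,0⟩) (.leaf ⟨47,[38,47,37,47,38,47,37],37,0⟩))))))) (.node (.node (.node (.node (.node (.node (.node (.leaf ⟨38,[37],0,1⟩) (.leaf ⟨37,[44,37,44,38,44,38,44],17,3⟩)) (.leaf ⟨46,[38,47,41,44,37,42,45,44,45,47,38],41,2⟩)) (.node (.node (.leaf ⟨41,[39,41,39],9,3⟩) (.leaf ⟨42,[47,46,47,42,40,45,40],40,5⟩)) (.leaf ⟨44,[38,44,38,44,37,44,37],17,6⟩))) (.node (.node (.node (.leaf ⟨41,[45,41,45],21,3⟩) (.leaf ⟨41,[45,41,45],21,1⟩)) (.leaf ⟨42,[45,44,39,45,43,40,45,39],45,6⟩)) (.node (.leaf ⟨39,[41,39,41],9,0⟩) (.leaf ⟨42,[37,43,39,37],30,3⟩)))) (.node (.node (.node (.node (.leaf ⟨45,[45],20,1⟩) (.leaf ⟨38,[40,47,41,47,39,47,37,47],38,7⟩)) (.leaf ⟨43,[39,37,42,37],30,0⟩)) (.node (.node (.leaf ⟨37,[47,38,47,37,47,38,47],37,3⟩) (.leaf ⟨43,[44,38,46,41,39,47,45,39,45,47,45,46],44,4⟩))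 (.leaf ⟨44,[41,44,41,44,41],16,2⟩))) (.node (.node (.node (.leaf ⟨37,[41,37,41],8,3⟩) (.leaf ⟨41,[37,40,46,38,39,41,46],32,1⟩)) (.leaf ⟨44,[37,44,37,44,38,44,38],17,2⟩)) (.node (.leaf ⟨46,[47,42,40,45,40,42,47],40,7⟩) (.leaf ⟨47,[38,39,41,47,41,37,40],36,4⟩))))) (.node (.node (.node (.node (.node (.leaf ⟨41,[41],5,1⟩) (.leaf ⟨41,[44,41,44,41,44],16,1⟩)) (.leaf ⟨41,[46,37,46,38,46,39],31,6⟩)) (.node (.node (.leaf ⟨46,[39,46,39,46,39],27,4⟩) (.leaf ⟨44,[41,44,41,44,41],16,0⟩)) (.leaf ⟨43,[44,43,44,43,44,43,44],18,7⟩))) (.node (.node (.node (.leaf ⟨39,[38,40,37],7,2⟩) (.leaf ⟨41,[46,41,37,40,46,38,39],32,7⟩)) (.leaf ⟨43,[40,45,39,42,45,44,39,45],45,2⟩)) (.node (.leaf ⟨47,[40,44,47,40,44,47,44,39],39,6⟩) (.leaf ⟨46,[38,39,41,46,41,37,40],32,4⟩)))) (.node (.node (.node (.node (.leaf ⟨39,[39,39],6,2⟩) (.leaf ⟨39,[46,39,46,39,46],27,1⟩))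 (.leaf ⟨37,[44,45,37,39,45,38,45,41,43,44],24,9⟩)) (.node (.leaf ⟨40,[47,41,47,39,47,37,47,38],38,8⟩) (.leaf ⟨37,[44,38,45,44,38,41,44,45],25,7⟩))) (.node (.node (.node (.leaf ⟨47,[44,47,44,47,44],35,4⟩) (.leaf ⟨45,[44,38,41,44,45,37,44,38],25,1⟩)) (.leaf ⟨44,[37,44,38,44,38,44,37],17,4⟩)) (.node (.leaf ⟨45,[41,45,41],21,2⟩) (.leaf ⟨46,[44,46,44,46,44],28,2⟩)))))) (.node (.node (.node (.node (.node (.node (.leaf ⟨40,[39],3,1⟩) (.leaf ⟨45,[37,44,38,45,44,38,41,44],25,6⟩)) (.leaf ⟨46,[39,46,39,46,39],27,2⟩)) (.node (.node (.leaf ⟨41,[37,41,37],8,2⟩) (.leaf ⟨44,[46,44,46,44,46],28,1⟩)) (.leaf ⟨46,[44,41,44,46,44,45,44],33,0⟩))) (.node (.node (.node (.leaf ⟨42,[42,41],12,0⟩) (.leaf ⟨44,[46,44,41,44,46,44,45],33,7⟩)) (.leaf ⟨45,[44,39,45,43,40,45,39,42],45,7⟩)) (.node (.leaf ⟨38,[47,37,47,38,47,37,47],37,1⟩) (.leaf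 ⟨47,[42,40,45,40,42,47,46],40,0⟩)))) (.node (.node (.node (.node (.leaf ⟨37,[37,37],2,2⟩) (.leaf ⟨39,[47,40,44,47,40,44,47,44],39,5⟩)) (.leaf ⟨45,[40,45,39,45,40,41],22,0⟩)) (.node (.leaf ⟨37,[47,38,40,47,41,47,39,47],38,5⟩) (.leaf ⟨47,[46,47,42,40,45,40,42],40,6⟩))) (.node (.node (.node (.leaf ⟨39,[37,42,37,43],30,1⟩) (.leaf ⟨41,[44,46,44,45,44,46,44],33,2⟩)) (.leaf ⟨44,[46,44,46,44,46],28,3⟩)) (.node (.leaf ⟨39,[46,39,46,39,46],27,3⟩) (.leaf ⟨46,[45,46,45,46,45],29,2⟩))))) (.node (.node (.node (.node (.node (.leaf ⟨42,[43],10,0⟩) (.leaf ⟨37,[40,46,38,39,41,46,41],32,2⟩)) (.leaf ⟨40,[43,37,42,38],13,4⟩)) (.node (.node (.leaf ⟨46,[38,46,39,41,46,37],31,2⟩) (.leaf ⟨40,[42,47,46,47,42,40,45],40,4⟩)) (.leaf ⟨45,[46,45,46,45,46],29,1⟩))) (.node (.node (.node (.leaf ⟨37,[42,37,43,39],30,2⟩) (.leaf ⟨38,[39,41,47,41,37,40,47],36,5⟩))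 (.leaf ⟨46,[44,46,44,46,44],28,4⟩)) (.node (.leaf ⟨44,[39,47,40,44,47,40,44,47],39,4⟩) (.leaf ⟨45,[44,46,44,41,44,46,44],33,6⟩)))) (.node (.node (.node (.node (.leaf ⟨38,[40,37,39],7,3⟩) (.leaf ⟨44,[46,44,46,44,46],28,5⟩)) (.leaf ⟨38,[44,37,44,37,44,38,44],17,1⟩)) (.node (.leaf ⟨37,[43,39,37,42],30,4⟩) (.leaf ⟨45,[41,45,41],21,0⟩))) (.node (.node (.node (.leaf ⟨37,[40,47,38,39,41,47,41],36,2⟩) (.leaf ⟨45,[39,42,45,44,39,45,43,40],45,4⟩)) (.leaf ⟨44,[43,44,43,44,43,44,43],18,6⟩)) (.node (.leaf ⟨39,[45,40,41,45,40,45],22,3⟩) (.leaf ⟨44,[47,44,47,44,47],35,3⟩))))))))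
noncomputable def tc0 : TCL := ⟨[37,38,39,40,41,42,43,44,45,46,47], [37,38,39,40,41,42,43,44,45,46], 275, 32, 0x3fff, 14, 0xff,
  fun a x => look 0xffffffff (nth tc0T 0 a) x, fun x => look 0xffffffff tc0d x, tc0r⟩
noncomputable def tc1T : List ℕ := [0,0,0,0,0,0,0,0,0,0,0,0,0,0,0,0,0,0,0,0,0,0,0,0,0,0,0,0,0,0,0,0,0,0,0,0,0,tc1t37,tc1t38,tc1t39,tc1t40,tc1t41,tc1t42,tc1t43,tc1t44,tc1t45,tc1t46]
noncomputable def tc1r : Tr Rule := (.node (.node (.node (.node (.node (.node (.node (.leaf ⟨46,[46],26,1⟩) (.leaf ⟨38,[39,41,46,41,37,40,46],32,5⟩)) (.node (.leaf ⟨39,[46,39,46,39,46],27,3⟩) (.leaf ⟨45,[38,45,41,43,44,37,44,45,37,39],24,3⟩))) (.node (.node (.leaf ⟨41,[45,41,45],21,3⟩) (.leaf ⟨44,[37,44,43,44,37,39,44,42],19,2⟩)) (.leaf ⟨44,[39,44,39],15,2⟩))) (.node (.node (.node (.leaf ⟨44,[44],14,1⟩) (.leaf ⟨37,[43,39,37,42],30,4⟩))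 (.node (.leaf ⟨41,[37,41,37],8,2⟩) (.leaf ⟨41,[44,41,44,41,44],16,1⟩))) (.node (.node (.leaf ⟨43,[37,42,38,40],13,0⟩) (.leaf ⟨41,[46,37,46,38,46,39],31,6⟩)) (.leaf ⟨46,[44,46,44,46,44],28,0⟩)))) (.node (.node (.node (.node (.leaf ⟨39,[40],3,0⟩) (.leaf ⟨40,[41,45,40,45,39,45],22,5⟩)) (.node (.leaf ⟨37,[40,46,38,39,41,46,41],32,2⟩) (.leaf ⟨44,[41,44,46,44,45,44,46],33,1⟩))) (.node (.node (.leaf ⟨39,[38,40,37],7,2⟩) (.leaf ⟨43,[44,43,44,43,44,43,44],18,5⟩)) (.leaf ⟨44,[37,44,38,44,38,44,37],17,4⟩))) (.node (.node (.node (.leaf ⟨39,[39,39],6,2⟩) (.leaf ⟨43,[39,37,42,37],30,0⟩)) (.node (.leaf ⟨45,[41,45,41],21,2⟩) (.leaf ⟨42,[37,43,39,37],30,3⟩))) (.node (.node (.leaf ⟨37,[42,37,43,39],30,2⟩) (.leaf ⟨38,[46,39,41,46,37,46],31,3⟩)) (.leaf ⟨39,[41,39,41],9,0⟩))))) (.node (.node (.node (.node (.node (.leaf ⟨37,[38],0,0⟩)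 (.leaf ⟨45,[43,38,44,45,41,44,37,42],23,0⟩)) (.node (.leaf ⟨45,[46,45,46,45,46],29,3⟩) (.leaf ⟨44,[46,44,46,44,46],28,5⟩))) (.node (.node (.leaf ⟨42,[42,41],12,0⟩) (.leaf ⟨45,[44,38,41,44,45,37,44,38],25,1⟩)) (.leaf ⟨46,[38,39,41,46,41,37,40],32,4⟩))) (.node (.node (.node (.leaf ⟨37,[37,37],2,2⟩) (.leaf ⟨39,[44,39,44],15,1⟩)) (.node (.leaf ⟨46,[39,41,46,37,46,38],31,4⟩) (.leaf ⟨37,[42,45,43,38,44,45,41,44],23,7⟩))) (.node (.node (.leaf ⟨46,[44,46,44,46,44],28,4⟩) (.leaf ⟨41,[46,41,37,40,46,38,39],32,7⟩)) (.leaf ⟨39,[41,46,37,46,38,46],31,5⟩)))) (.node (.node (.node (.node (.leaf ⟨43,[42],10,1⟩) (.leaf ⟨42,[45,43,38,44,45,41,44,37],23,8⟩)) (.node (.leaf ⟨41,[39,41,39],9,3⟩) (.leaf ⟨38,[45,44,38,41,44,45,37,44],25,0⟩))) (.node (.node (.leaf ⟨37,[42,38,40,43],13,1⟩) (.leaf ⟨44,[41,44,41,44,41],16,2⟩)) (.leaf ⟨44,[45,44,46,44,41,44,46],33,5⟩)))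 (.node (.node (.node (.leaf ⟨38,[40,37,39],7,3⟩) (.leaf ⟨44,[43,44,43,44,43,44,43],18,6⟩)) (.node (.leaf ⟨41,[44,46,44,45,44,46,44],33,2⟩) (.leaf ⟨43,[44,37,44,45,37,39,45,38,45,41],24,7⟩))) (.node (.node (.leaf ⟨39,[41,39,41],9,2⟩) (.leaf ⟨45,[41,45,41],21,0⟩)) (.leaf ⟨46,[39,46,39,46,39],27,0⟩)))))) (.node (.node (.node (.node (.node (.node (.leaf ⟨38,[37],0,1⟩) (.leaf ⟨37,[46,38,46,39,41,46],31,1⟩)) (.node (.leaf ⟨44,[46,44,46,44,46],28,3⟩) (.leaf ⟨44,[38,45,44,38,41,44,45,37],25,8⟩))) (.node (.node (.leaf ⟨41,[42,42],12,2⟩) (.leaf ⟨45,[41,44,37,42,45,43,38,44],23,4⟩)) (.leaf ⟨40,[43,37,42,38],13,4⟩))) (.node (.node (.node (.leaf ⟨45,[45],20,1⟩) (.leaf ⟨44,[37,44,45,37,39,45,38,45,41,43],24,8⟩)) (.node (.leaf ⟨37,[37,37],2,1⟩) (.leaf ⟨45,[40,41,45,40,45,39],22,4⟩))) (.node (.node (.leaf ⟨46,[39,46,39,46,39],27,4⟩)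 (.leaf ⟨40,[46,38,39,41,46,41,37],32,3⟩)) (.leaf ⟨39,[46,39,46,39,46],27,5⟩)))) (.node (.node (.node (.node (.leaf ⟨41,[41],5,1⟩) (.leaf ⟨40,[45,39,45,40,41,45],22,1⟩)) (.node (.leaf ⟨39,[39,39],6,1⟩) (.leaf ⟨45,[37,44,38,45,44,38,41,44],25,6⟩))) (.node (.node (.leaf ⟨41,[37,41,37],8,0⟩) (.leaf ⟨46,[44,45,44,46,44,41,44],33,4⟩)) (.leaf ⟨44,[46,44,41,44,46,44,45],33,7⟩))) (.node (.node (.node (.leaf ⟨39,[44,39,44],15,3⟩) (.leaf ⟨44,[43,44,43,44,43,44,43],18,2⟩)) (.node (.leaf ⟨45,[44,46,44,41,44,46,44],33,6⟩) (.leaf ⟨45,[40,45,39,45,40,41],22,0⟩))) (.node (.node (.leaf ⟨39,[37,42,37,43],30,1⟩) (.leaf ⟨41,[37,40,46,38,39,41,46],32,1⟩)) (.leaf ⟨46,[45,46,45,46,45],29,0⟩))))) (.node (.node (.node (.node (.node (.leaf ⟨40,[39],3,1⟩) (.leaf ⟨39,[45,40,41,45,40,45],22,3⟩)) (.node (.leaf ⟨39,[41,46,41,37,40,46,38],32,6⟩)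 (.leaf ⟨44,[46,44,45,44,46,44,41],33,3⟩))) (.node (.node (.leaf ⟨40,[37,39,38],7,0⟩) (.leaf ⟨46,[37,46,38,46,39,41],31,0⟩)) (.leaf ⟨44,[38,44,38,44,37,44,37],17,6⟩))) (.node (.node (.node (.leaf ⟨37,[39,38,40],7,1⟩) (.leaf ⟨44,[39,44,39],15,0⟩)) (.node (.leaf ⟨45,[39,45,40,41,45,40],22,2⟩) (.leaf ⟨42,[38,40,43,37],13,2⟩))) (.node (.node (.leaf ⟨46,[45,46,45,46,45],29,4⟩) (.leaf ⟨45,[46,45,46,45,46],29,1⟩)) (.leaf ⟨46,[39,46,39,46,39],27,2⟩)))) (.node (.node (.node (.node (.leaf ⟨42,[43],10,0⟩) (.leaf ⟨43,[38,44,45,41,44,37,42,45],23,1⟩)) (.node (.leaf ⟨41,[39,41,39],9,1⟩) (.leaf ⟨45,[46,45,46,45,46],29,5⟩))) (.node (.node (.leaf ⟨37,[41,37,41],8,3⟩) (.leaf ⟨46,[44,46,44,46,44],28,2⟩)) (.leaf ⟨41,[44,41,44,41,44],16,5⟩))) (.node (.node (.node (.leaf ⟨42,[41,42],12,1⟩) (.leaf ⟨37,[39,44,42,44,37,44,43,44],19,7⟩))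 (.leaf ⟨44,[41,44,41,44,41],16,4⟩)) (.node (.node (.leaf ⟨46,[38,46,39,41,46,37],31,2⟩) (.leaf ⟨46,[45,46,45,46,45],29,2⟩)) (.leaf ⟨44,[46,44,46,44,46],28,1⟩)))))))
noncomputable def tc1 : TCL := ⟨[37,38,39,40,41,42,43,44,45,46], [37,38,39,40,41,42,43,44,45], 112, 28, 0xfff, 12, 0x7f,
  fun a x => look 0xfffffff (nth tc1T 0 a) x, fun x => look 0xfffffff tc1d x, tc1r⟩
noncomputable def tc2T : List ℕ := [0,0,0,0,0,0,0,0,0,0,0,0,0,0,0,0,0,0,0,0,0,0,0,0,0,0,0,0,0,0,0,0,0,0,0,0,0,tc2t37,tc2t38,tc2t39,tc2t40,tc2t41,tc2t42,tc2t43,tc2t44,tc2t45]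
noncomputable def tc2r : Tr Rule := (.node (.node (.node (.node (.node (.node (.leaf ⟨45,[45],20,1⟩) (.leaf ⟨44,[39,44,39],15,0⟩)) (.node (.leaf ⟨41,[45,41,45],21,3⟩) (.leaf ⟨38,[45,41,43,44,37,44,45,37,39,45],24,4⟩))) (.node (.node (.leaf ⟨37,[37,37],2,2⟩) (.leaf ⟨40,[45,39,45,40,41,45],22,1⟩)) (.node (.leaf ⟨37,[42,38,40,43],13,1⟩) (.leaf ⟨44,[38,45,44,38,41,44,45,37],25,8⟩)))) (.node (.node (.node (.leaf ⟨39,[40],3,0⟩) (.leaf ⟨41,[44,41,44,41,44],16,3⟩)) (.node (.leaf ⟨42,[41,42],12,1⟩) (.leaf ⟨45,[41,45,41],21,0⟩))) (.node (.node (.leaf ⟨39,[44,39,44],15,3⟩) (.leaf ⟨45,[38,45,41,43,44,37,44,45,37,39],24,3⟩)) (.leaf ⟨37,[42,45,43,38,44,45,41,44],23,7⟩)))) (.node (.node (.node (.node (.leaf ⟨37,[38],0,0⟩) (.leaf ⟨44,[38,44,38,44,37,44,37],17,6⟩)) (.node (.leaf ⟨41,[39,41,39],9,3⟩) (.leaf ⟨37,[37,37],2,1⟩)))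 (.node (.node (.leaf ⟨37,[39,38,40],7,1⟩) (.leaf ⟨39,[45,40,41,45,40,45],22,3⟩)) (.node (.leaf ⟨45,[40,41,45,40,45,39],22,4⟩) (.leaf ⟨42,[45,43,38,44,45,41,44,37],23,8⟩)))) (.node (.node (.node (.leaf ⟨44,[44],14,1⟩) (.leaf ⟨45,[43,38,44,45,41,44,37,42],23,0⟩)) (.node (.leaf ⟨39,[38,40,37],7,2⟩) (.leaf ⟨44,[41,44,41,44,41],16,2⟩))) (.node (.node (.leaf ⟨41,[41],5,1⟩) (.leaf ⟨44,[45,37,39,45,38,45,41,43,44,37],24,10⟩)) (.leaf ⟨41,[37,41,37],8,0⟩))))) (.node (.node (.node (.node (.node (.leaf ⟨38,[37],0,1⟩) (.leaf ⟨44,[41,44,41,44,41],16,0⟩)) (.node (.leaf ⟨41,[37,41,37],8,2⟩) (.leaf ⟨39,[44,39,44],15,1⟩))) (.node (.node (.leaf ⟨38,[40,37,39],7,3⟩) (.leaf ⟨45,[41,45,41],21,2⟩)) (.node (.leaf ⟨40,[37,39,38],7,0⟩) (.leaf ⟨43,[38,44,45,41,44,37,42,45],23,1⟩)))) (.node (.node (.node (.leaf ⟨43,[42],10,1⟩) (.leaf ⟨43,[44,43,44,43,44,43,44],18,3⟩))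 (.node (.leaf ⟨38,[40,43,37,42],13,3⟩) (.leaf ⟨39,[41,39,41],9,0⟩))) (.node (.node (.leaf ⟨41,[42,42],12,2⟩) (.leaf ⟨45,[37,39,45,38,45,41,43,44,37,44],24,0⟩)) (.leaf ⟨38,[44,45,41,44,37,42,45,43],23,2⟩)))) (.node (.node (.node (.node (.leaf ⟨40,[39],3,1⟩) (.leaf ⟨38,[44,37,44,37,44,38,44],17,1⟩)) (.node (.leaf ⟨42,[42,41],12,0⟩) (.leaf ⟨41,[39,41,39],9,1⟩))) (.node (.node (.leaf ⟨39,[39,39],6,2⟩) (.leaf ⟨45,[41,43,44,37,44,45,37,39,45,38],24,5⟩)) (.leaf ⟨45,[39,45,40,41,45,40],22,2⟩))) (.node (.node (.node (.leaf ⟨42,[43],10,0⟩) (.leaf ⟨45,[41,44,37,42,45,43,38,44],23,4⟩)) (.node (.leaf ⟨37,[41,37,41],8,3⟩) (.leaf ⟨43,[37,42,38,40],13,0⟩))) (.node (.node (.leaf ⟨42,[38,40,43,37],13,2⟩) (.leaf ⟨37,[44,45,37,39,45,38,45,41,43,44],24,9⟩)) (.leaf ⟨44,[39,44,39],15,2⟩))))))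
noncomputable def tc2 : TCL := ⟨[37,38,39,40,41,42,43,44,45], [37,38,39,40,41,42,43,44], 30, 24, 0x3ff, 10, 0x3f,
  fun a x => look 0xffffff (nth tc2T 0 a) x, fun x => look 0xffffff tc2d x, tc2r⟩
noncomputable def tc3T : List ℕ := [0,0,0,0,0,0,0,0,0,0,0,0,0,0,0,0,0,0,0,0,0,0,0,0,0,0,0,0,0,0,0,0,0,0,0,0,0,tc3t37,tc3t38,tc3t39,tc3t40,tc3t41,tc3t42,tc3t43,tc3t44]
noncomputable def tc3r : Tr Rule := (.node (.node (.node (.node (.node (.node (.leaf ⟨44,[44],14,1⟩) (.leaf ⟨37,[41,37,41],8,1⟩)) (.leaf ⟨39,[38,40,37],7,2⟩)) (.node (.leaf ⟨42,[41,42],12,1⟩) (.leaf ⟨43,[44,43,44,43,44,43,44],18,5⟩))) (.node (.node (.leaf ⟨43,[42],10,1⟩) (.leaf ⟨44,[41,44,41,44,41],16,4⟩)) (.node (.leaf ⟨40,[39],3,1⟩) (.leaf ⟨37,[39,44,42,44,37,44,43,44],19,7⟩)))) (.node (.node (.node (.leaf ⟨37,[38],0,0⟩) (.leaf ⟨40,[43,37,42,38],13,4⟩))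 (.node (.leaf ⟨42,[42,41],12,0⟩) (.leaf ⟨43,[44,37,39,44,42,44,37,44],19,5⟩))) (.node (.node (.leaf ⟨37,[37,37],2,2⟩) (.leaf ⟨37,[44,37,44,38,44,38,44],17,3⟩)) (.node (.leaf ⟨39,[41,39,41],9,2⟩) (.leaf ⟨42,[44,37,44,43,44,37,39,44],19,1⟩))))) (.node (.node (.node (.node (.node (.leaf ⟨38,[37],0,1⟩) (.leaf ⟨44,[39,44,39],15,2⟩)) (.leaf ⟨37,[42,38,40,43],13,1⟩)) (.node (.leaf ⟨41,[42,42],12,2⟩) (.leaf ⟨44,[39,44,39],15,0⟩))) (.node (.node (.leaf ⟨42,[43],10,0⟩) (.leaf ⟨37,[44,38,44,38,44,37,44],17,5⟩)) (.node (.leaf ⟨40,[37,39,38],7,0⟩) (.leaf ⟨44,[43,44,37,39,44,42,44,37],19,4⟩)))) (.node (.node (.node (.leaf ⟨41,[41],5,1⟩) (.leaf ⟨39,[39,39],6,2⟩)) (.node (.leaf ⟨39,[44,39,44],15,3⟩) (.leaf ⟨37,[44,43,44,37,39,44,42,44],19,3⟩))) (.node (.node (.leaf ⟨37,[41,37,41],8,3⟩) (.leaf ⟨38,[44,38,44,37,44,37,44],17,7⟩))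 (.node (.leaf ⟨39,[40],3,0⟩) (.leaf ⟨39,[41,39,41],9,0⟩))))))
noncomputable def tc3 : TCL := ⟨[37,38,39,40,41,42,43,44], [37,38,39,40,41,42,43], 27, 20, 0x3ff, 10, 0x3f,
  fun a x => look 0xfffff (nth tc3T 0 a) x, fun x => look 0xfffff tc3d x, tc3r⟩
noncomputable def tc4T : List ℕ := [0,0,0,0,0,0,0,0,0,0,0,0,0,0,0,0,0,0,0,0,0,0,0,0,0,0,0,0,0,0,0,0,0,0,0,0,0,tc4t37,tc4t38,tc4t39,tc4t40,tc4t41,tc4t42,tc4t43]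
noncomputable def tc4r : Tr Rule := (.node (.node (.node (.leaf ⟨43,[42],10,1⟩) (.leaf ⟨38,[37],0,1⟩)) (.node (.leaf ⟨41,[42,42],12,2⟩) (.leaf ⟨39,[40],3,0⟩))) (.node (.node (.leaf ⟨42,[42,41],12,0⟩) (.leaf ⟨40,[43,37,42,38],13,4⟩)) (.leaf ⟨37,[42,38,40,43],13,1⟩)))
noncomputable def tc4 : TCL := ⟨[37,38,39,40,41,42,43], [37,38,39,40,41], 2, 16, 0x3f, 6, 0xf,
  fun a x => look 0xffff (nth tc4T 0 a) x, fun x => look 0xffff tc4d x, tc4r⟩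
noncomputable def tc5T : List ℕ := [0,0,0,0,0,0,0,0,0,0,0,0,0,0,0,0,0,0,0,0,0,0,0,0,0,0,0,0,0,0,0,0,0,0,0,0,0,tc5t37,tc5t38,tc5t39,tc5t40,tc5t41]
noncomputable def tc5r : Tr Rule := (.node (.node (.node (.node (.leaf ⟨40,[39],3,1⟩) (.leaf ⟨37,[41,37,41],8,3⟩)) (.leaf ⟨38,[40,37,39],7,3⟩)) (.node (.leaf ⟨41,[41],5,1⟩) (.leaf ⟨37,[38],0,0⟩))) (.node (.node (.node (.leaf ⟨39,[40],3,0⟩) (.leaf ⟨39,[41,39,41],9,2⟩)) (.leaf ⟨37,[39,38,40],7,1⟩)) (.node (.leaf ⟨39,[39,39],6,2⟩) (.leaf ⟨38,[37],0,1⟩))))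
noncomputable def tc5 : TCL := ⟨[37,38,39,40,41], [37,38], 6, 16, 0x7f, 7, 0xf,
  fun a x => look 0xffff (nth tc5T 0 a) x, fun x => look 0xffff tc5d x, tc5r⟩
noncomputable def tc6T : List ℕ := [0,0,0,0,0,0,0,0,0,0,0,0,0,0,0,0,0,0,0,0,0,0,0,0,0,0,0,0,0,0,0,0,0,0,0,0,0,tc6t37,tc6t38]
noncomputable def tc6r : Tr Rule := (.node (.node (.leaf ⟨38,[37],0,1⟩) (.leaf ⟨37,[37,37],2,2⟩)) (.leaf ⟨37,[38],0,0⟩))
noncomputable def tc6 : TCL := ⟨[37,38], [], 3, 16, 0x3f, 6, 0x7,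
  fun a x => look 0xffff (nth tc6T 0 a) x, fun x => look 0xffff tc6d x, tc6r⟩
noncomputable def tc : List TCL := [tc0, tc1, tc2, tc3, tc4, tc5, tc6]
noncomputable def inW : List (List ℕ) := [[43,46,40,47,37,44,39,46,44,37,45,44,43,38,44,37],
  [47,38,47,43,47,44,42,38,46,42,39,45,44,43,44,42,41,39,38],
  [47,38,47,42,38,47,45,46,42,37,46,44,45,44,43,37,44,40]]
noncomputable def tcS : List ℕ := [37,38,39,40,41,42,43,44,45,46,47]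

end Cfsg.Agent.CG.McL
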