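import Cfsg.Agent.Lib.Grp.McL.ODefs

set_option autoImplicit false
set_option maxRecDepth 100000
set_option Elab.async false

namespace Cfsg.Agent.CG.McL

theorem Oc141 : cc0.chk (appT tabs t67 0xfff) 1 239 = true := by decide +kernel
theorem Oc142 : cc1.chk (appT tabs t67 0xfff) 1 27 = true := by decide +kernel
theorem Oc143 : cc2.chk (appT tabs t67 0xfff) 1 2 = true := by decide +kernel
theorem Oc144 : cc3.chk (appT tabs t67 0xfff) 1 1 = true := by decide +kernel
theorem Oc145 : okcb 275 12 (bases cc) = true := by decide +kernel
theorem Oc146 : headAll (appT tabs t67 0xfff) cc [] = true := by decide +kernel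
theorem Oc147 : tp0.head tpR = true := by decide +kernel
theorem Oc148 : allL (fun a => tp0.chk a 0 tp0.N) tp0.S = true := by decide +kernel
theorem Oc149 : tp1.head tpR = true := by decide +kernel
theorem Oc150 : allL (fun a => tp1.chk a 0 tp1.N) tp1.S = true := by decide +kernel
theorem Oc151 : tcLink tp [] [48,49,50,51] = true := by decide +kernel
theorem Oc152 : pc0.chk (appT tabs t67 0xfff) 1 63 = true := by decide +kernel
theorem Oc153 : pc1.chk (appT tabs t67 0xfff) 1 1 = true := by decide +kernel
theorem Oc154 : okcb 275 12 (bases pc) = true := by decide +kernel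
theorem Oc155 : headAll (appT tabs t67 0xfff) pc [] = true := by decide +kernel
theorem Oc156 : allL (fun v => eqW (appT tabs t67 0xfff) bs v []) tpR = true := by decide +kernel
theorem Oc157 : trChk (appT tabs t67 0xfff) mc0 [mc1, mc2, mc3, mc4, mc5, mc6] bs (diagQ pQ) (diagQ pR) pF 0 275 = true := by decide +kernel
theorem Oc158 : classChk (appT tabs t67 0xfff) bs 8 2 52 [8,11,14,17,15,15,23,21,21,30,28,30,27,33] pS pF pU = true := by decide +kernel
theorem Oc159 : powChk (appT tabs t67 0xfff) bs 6 11 aK nK = true := by decide +kernel
theorem Oc160 : en.chk (appT tabs t67 0xfff) tst 0 3037 0 179114572772081880 = true := by decide +kernel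
theorem Oc161 : en.chk (appT tabs t67 0xfff) tst 3037 3037 179114572772081880 304171113051539256 = true := by decide +kernel
theorem Oc162 : en.chk (appT tabs t67 0xfff) tst 6074 3037 304171113051539256 375087162293062716 = true := by decide +kernel
theorem Oc163 : en.chk (appT tabs t67 0xfff) tst 9111 3037 375087162293062716 489944598084256896 = true := by decide +kernel
theorem Oc164 : en.chk (appT tabs t67 0xfff) tst 12148 3037 489944598084256896 611568194427177588 = true := by decide +kernel
theorem Oc165 : en.chk (appT tabs t67 0xfff) tst 15185 3037 611568194427177588 760011339768299640 = true := by decide +kernel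
theorem Oc166 : en.chk (appT tabs t67 0xfff) tst 18222 3037 760011339768299640 881756128877840460 = true := by decide +kernel
theorem Oc167 : en.chk (appT tabs t67 0xfff) tst 21259 1016 881756128877840460 925714888899723385 = true := by decide +kernel
theorem Oc168 : commAll (appT tabs t67 0xfff) bs 8 cc = true := by decide +kernel
theorem Oc169 : relChk (appT tabs t67 0xfff) bs 6 8 rT = true := by decide +kernel
theorem Oc170 : eqW (appT tabs t67 0xfff) bs (substW img [37,38]) [] = true := by decide +kernel
theorem Oc171 : eqW (appT tabs t67 0xfff) bs (substW img [38,37]) [] = true := by decide +kernel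
theorem Oc172 : eqW (appT tabs t67 0xfff) bs (substW img [37,37,37]) [] = true := by decide +kernel
theorem Oc173 : eqW (appT tabs t67 0xfff) bs (substW img [39,40]) [] = true := by decide +kernel
theorem Oc174 : eqW (appT tabs t67 0xfff) bs (substW img [40,39]) [] = true := by decide +kernel
theorem Oc175 : eqW (appT tabs t67 0xfff) bs (substW img [41,41]) [] = true := by decide +kernel
theorem Oc176 : eqW (appT tabs t67 0xfff) bs (substW img [39,39,39]) [] = true := by decide +kernel
theorem Oc177 : eqW (appT tabs t67 0xfff) bs (substW img [40,37,39,38]) [] = true := by decide +kernel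
theorem Oc178 : eqW (appT tabs t67 0xfff) bs (substW img [41,37,41,37]) [] = true := by decide +kernel
theorem Oc179 : eqW (appT tabs t67 0xfff) bs (substW img [39,41,39,41]) [] = true := by decide +kernel
theorem Oc180 : eqW (appT tabs t67 0xfff) bs (substW img [42,43]) [] = true := by decide +kernel
theorem Oc181 : eqW (appT tabs t67 0xfff) bs (substW img [43,42]) [] = true := by decide +kernel
theorem Oc182 : eqW (appT tabs t67 0xfff) bs (substW img [42,42,41]) [] = true := by decide +kernel
theorem Oc183 : eqW (appT tabs t67 0xfff) bs (substW img [43,37,42,38,40]) [] = true := by decide +kernel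
theorem Oc184 : eqW (appT tabs t67 0xfff) bs (substW img [44,44]) [] = true := by decide +kernel
theorem Oc185 : eqW (appT tabs t67 0xfff) bs (substW img [44,39,44,39]) [] = true := by decide +kernel
theorem Oc186 : eqW (appT tabs t67 0xfff) bs (substW img [44,41,44,41,44,41]) [] = true := by decide +kernel
theorem Oc187 : eqW (appT tabs t67 0xfff) bs (substW img [44,38,44,37,44,37,44,38]) [] = true := by decide +kernel
theorem Oc188 : eqW (appT tabs t67 0xfff) bs (substW img [44,43,44,43,44,43,44,43]) [] = true := by decide +kernel
theorem Oc189 : eqW (appT tabs t67 0xfff) bs (substW img [44,42,44,37,44,43,44,37,39]) [] = true := by decide +kernel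
theorem Oc190 : eqW (appT tabs t67 0xfff) bs (substW img [45,45]) [] = true := by decide +kernel
theorem Oc191 : eqW (appT tabs t67 0xfff) bs (substW img [45,41,45,41]) [] = true := by decide +kernel
theorem Oc192 : eqW (appT tabs t67 0xfff) bs (substW img [45,40,45,39,45,40,41]) [] = true := by decide +kernel
theorem Oc193 : eqW (appT tabs t67 0xfff) bs (substW img [45,43,38,44,45,41,44,37,42]) [] = true := by decide +kernel
theorem Oc194 : eqW (appT tabs t67 0xfff) bs (substW img [45,37,39,45,38,45,41,43,44,37,44]) [] = true := by decide +kernel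
theorem Oc195 : eqW (appT tabs t67 0xfff) bs (substW img [38,45,44,38,41,44,45,37,44]) [] = true := by decide +kernel
theorem Oc196 : eqW (appT tabs t67 0xfff) bs (substW img [46,46]) [] = true := by decide +kernel
theorem Oc197 : eqW (appT tabs t67 0xfff) bs (substW img [46,39,46,39,46,39]) [] = true := by decide +kernel
theorem Oc198 : eqW (appT tabs t67 0xfff) bs (substW img [46,44,46,44,46,44]) [] = true := by decide +kernel
theorem Oc199 : eqW (appT tabs t67 0xfff) bs (substW img [46,45,46,45,46,45]) [] = true := by decide +kernel
theorem Oc200 : eqW (appT tabs t67 0xfff) bs (substW img [43,39,37,42,37]) [] = true := by decide +kernel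
theorem Oc201 : eqW (appT tabs t67 0xfff) bs (substW img [46,37,46,38,46,39,41]) [] = true := by decide +kernel
theorem Oc202 : eqW (appT tabs t67 0xfff) bs (substW img [46,41,37,40,46,38,39,41]) [] = true := by decide +kernel
theorem Oc203 : eqW (appT tabs t67 0xfff) bs (substW img [46,44,41,44,46,44,45,44]) [] = true := by decide +kernel
theorem Oc204 : eqW (appT tabs t67 0xfff) bs (substW img [47,47]) [] = true := by decide +kernel
theorem Oc205 : eqW (appT tabs t67 0xfff) bs (substW img [47,44,47,44,47,44]) [] = true := by decide +kernel
theorem Oc206 : eqW (appT tabs t67 0xfff) bs (substW img [47,41,37,40,47,38,39,41]) [] = true := by decide +kernel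
theorem Oc207 : eqW (appT tabs t67 0xfff) bs (substW img [47,38,47,37,47,38,47,37]) [] = true := by decide +kernel
theorem Oc208 : eqW (appT tabs t67 0xfff) bs (substW img [47,41,47,39,47,37,47,38,40]) [] = true := by decide +kernel
theorem Oc209 : eqW (appT tabs t67 0xfff) bs (substW img [47,40,44,47,44,39,47,40,44]) [] = true := by decide +kernel
theorem Oc210 : eqW (appT tabs t67 0xfff) bs (substW img [47,42,40,45,40,42,47,46]) [] = true := by decide +kernel
theorem Oc211 : eqW (appT tabs t67 0xfff) bs (substW img [47,38,46,38,47,41,44,37,42,45,44,45]) [] = true := by decide +kernel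
theorem Oc212 : eqW (appT tabs t67 0xfff) bs (substW img [47,40,42,46,41,47,43,44,38,43,45,38,44]) [] = true := by decide +kernel
theorem Oc213 : eqW (appT tabs t67 0xfff) bs (substW img [47,45,42,40,45,38,47,37,40,46,43,46,38]) [] = true := by decide +kernel
theorem Oc214 : eqW (appT tabs t67 0xfff) bs (substW img [45,47,45,46,43,44,38,46,41,39,47,45,39]) [] = true := by decide +kernel
theorem Oc215 : eqW (appT tabs t67 0xfff) bs (substW img [39,45,43,40,45,39,42,45,44]) [] = true := by decide +kernel
theorem Oc216 : trChk (appT tabs t67 0xfff) mc0 [mc1, mc2, mc3, mc4, mc5, mc6] bs (pairQ 6 8 6 66 nQ) (pairQ 6 8 6 66 [[0], [1]]) [] 0 275 = true := by decide +kernel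

end Cfsg.Agent.CG.McL
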