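import Cfsg.Agent.Lib.Grp.McL.OD1
import Cfsg.Agent.Lib.Grp.McL.Defs

set_option autoImplicit false
set_option maxRecDepth 100000
set_option Elab.async false

namespace Cfsg.Agent.CG.McL

noncomputable def cc0 : Lvl := ⟨24, [53,54,55,56], 240,
  fun i => look 0xfff cc0c (Nat.mul 12 i), fun i => look 0xff cc0p (Nat.mul 8 i),
  fun i => look 255 cc0l (Nat.mul 8 i), fun i => look 255 cc0i (Nat.mul 8 i), fun x => look 0xfff cc0q x, 7⟩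
noncomputable def cc1 : Lvl := ⟨1320, [57,58,59,60], 28,
  fun i => look 0xfff cc1c (Nat.mul 12 i), fun i => look 0xff cc1p (Nat.mul 8 i),
  fun i => look 255 cc1l (Nat.mul 8 i), fun i => look 255 cc1i (Nat.mul 8 i), fun x => look 0xfff cc1q x, 3⟩
noncomputable def cc2 : Lvl := ⟨2316, [61,62], 3,
  fun i => look 0xfff cc2c (Nat.mul 12 i), fun i => look 0xf cc2p (Nat.mul 4 i),
  fun i => look 255 cc2l (Nat.mul 8 i), fun i => look 255 cc2i (Nat.mul 8 i), fun x => look 0xfff cc2q x, 1⟩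
noncomputable def cc3 : Lvl := ⟨936, [63], 2,
  fun i => look 0xfff cc3c (Nat.mul 12 i), fun i => look 0xf cc3p (Nat.mul 4 i),
  fun i => look 255 cc3l (Nat.mul 8 i), fun i => look 255 cc3i (Nat.mul 8 i), fun x => look 0xfff cc3q x, 1⟩
noncomputable def cc : List Lvl := [cc0, cc1, cc2, cc3]
noncomputable def pc0 : Lvl := ⟨24, [48,49,50,51], 64,
  fun i => look 0xfff pc0c (Nat.mul 12 i), fun i => look 0xff pc0p (Nat.mul 8 i),
  fun i => look 255 pc0l (Nat.mul 8 i), fun i => look 255 pc0i (Nat.mul 8 i), fun x => look 0xfff pc0q x, 5⟩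
noncomputable def pc1 : Lvl := ⟨1320, [48], 2,
  fun i => look 0xfff pc1c (Nat.mul 12 i), fun i => look 0xf pc1p (Nat.mul 4 i),
  fun i => look 255 pc1l (Nat.mul 8 i), fun i => look 255 pc1i (Nat.mul 8 i), fun x => look 0xfff pc1q x, 1⟩
noncomputable def pc : List Lvl := [pc0, pc1]
noncomputable def tpR : List (List ℕ) := [[48,48],
  [49,50],
  [50,49],
  [51,51],
  [49,49,49,49],
  [49,48,49,48,49,48,49,48],
  [50,48,49,48,50,48,49,48],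
  [50,51,50,48,51,49,49,48],
  [51,48,51,48,51,48,51,48],
  [51,49,51,48,51,49,51,48]]
noncomputable def tp0T : List ℕ := [0,0,0,0,0,0,0,0,0,0,0,0,0,0,0,0,0,0,0,0,0,0,0,0,0,0,0,0,0,0,0,0,0,0,0,0,0,0,0,0,0,0,0,0,0,0,0,0,tp0t48,tp0t49,tp0t50,tp0t51]
noncomputable def tp0r : Tr Rule := (.node (.node (.node (.node (.node (.leaf ⟨50,[49],1,1⟩) (.leaf ⟨49,[51,48,51,49,51,48,51],9,5⟩)) (.node (.leaf ⟨51,[49,49,48,50,51,50,48],7,4⟩) (.leaf ⟨48,[50,48,49,48,50,48,49],6,7⟩))) (.node (.node (.leaf ⟨49,[49,49,49],4,2⟩) (.leaf ⟨50,[51,50,48,51,49,49,48],7,0⟩)) (.node (.leaf ⟨50,[48,51,49,49,48,50,51],7,2⟩) (.leaf ⟨50,[48,49,48,50,48,49,48],6,4⟩)))) (.node (.node (.node (.leaf ⟨48,[48],0,1⟩) (.leaf ⟨51,[49,51,48,51,49,51,48],9,4⟩)) (.node (.leaf ⟨49,[48,50,51,50,48,51,49],7,6⟩) (.leaf ⟨49,[49,49,49],4,3⟩))) (.node (.node (.leaf ⟨48,[49,48,50,48,49,48,50],6,5⟩) (.leaf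 ⟨51,[48,51,48,51,48,51,48],8,6⟩)) (.node (.leaf ⟨49,[49,49,49],4,1⟩) (.leaf ⟨49,[48,49,48,49,48,49,48],5,6⟩))))) (.node (.node (.node (.node (.leaf ⟨49,[50],1,0⟩) (.leaf ⟨48,[51,49,51,48,51,49,51],9,3⟩)) (.node (.leaf ⟨48,[51,49,49,48,50,51,50],7,3⟩) (.leaf ⟨49,[49,48,50,51,50,48,51],7,5⟩))) (.node (.node (.leaf ⟨48,[49,48,49,48,49,48,49],5,5⟩) (.leaf ⟨49,[48,50,48,49,48,50,48],6,2⟩)) (.node (.leaf ⟨51,[50,48,51,49,49,48,50],7,1⟩) (.leaf ⟨49,[51,48,51,49,51,48,51],9,1⟩)))) (.node (.node (.node (.leaf ⟨51,[51],3,1⟩) (.leaf ⟨48,[49,48,49,48,49,48,49],5,7⟩)) (.node (.leaf ⟨48,[50,51,50,48,51,49,49],7,7⟩) (.leaf ⟨48,[49,48,49,48,49,48,49],5,1⟩))) (.node (.node (.leaf ⟨48,[50,48,49,48,50,48,49],6,3⟩) (.leaf ⟨48,[49,48,49,48,49,48,49],5,3⟩)) (.leaf ⟨48,[51,48,51,48,51,48,51],8,5⟩)))))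
noncomputable def tp0 : TCL := ⟨[48,49,50,51], [48], 64, 24, 0x7ff, 11, 0x3f,
  fun a x => look 0xffffff (nth tp0T 0 a) x, fun x => look 0xffffff tp0d x, tp0r⟩
noncomputable def tp1T : List ℕ := [0,0,0,0,0,0,0,0,0,0,0,0,0,0,0,0,0,0,0,0,0,0,0,0,0,0,0,0,0,0,0,0,0,0,0,0,0,0,0,0,0,0,0,0,0,0,0,0,tp1t48]
noncomputable def tp1r : Tr Rule := (.leaf ⟨48,[48],0,1⟩)
noncomputable def tp1 : TCL := ⟨[48], [], 2, 16, 0x3f, 6, 0x3,
  fun a x => look 0xffff (nth tp1T 0 a) x, fun x => look 0xffff tp1d x, tp1r⟩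
noncomputable def tp : List TCL := [tp0, tp1]
noncomputable def pS : List ℕ := [48,49,50,51]
noncomputable def pQ : List (List ℕ) := [[],
  [51,48,49],
  [49,51,49,51],
  [49,51,50],
  [50,48,49],
  [50,48,50],
  [49,49,48,49,49]]
noncomputable def pR : List (List ℕ) := [[48],
  [49],
  [50],
  [51]]
noncomputable def pF : List (List ℕ) := [[],
  [13,9,7,16,20,16,26,21,33,34]]
noncomputable def pU : List (List ℕ) := [[12,14,9,17,19,22,22,29,27,29,33,34,33,35]]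
noncomputable def aK : List ℕ := [6,64]
noncomputable def nK : List (List ℕ × ℕ) := [([],0),
  ([],6),
  ([],64),
  ([13,10,6,15,17,20,26,23,22,28,30,27,31,34,33,35],6),
  ([8,6,19,15,20,15,26,23,22,29,28,30,31,34,33,35],6),
  ([12,12,6,17,20,17,22,25,24,27,29,31,34,33,35],6),
  ([13,10,6,15,17,20,26,23,22,28,30,27,31,34,33,35],64),
  ([10,14,7,15,18,25,31,34,36],64),
  ([8,6,19,15,20,15,26,23,22,29,28,30,31,34,33,35],64),
  ([10,14,7,15,18,25,31,34,36],6),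
  ([12,12,6,17,20,17,22,25,24,27,29,31,34,33,35],64)]
noncomputable def rT : List (List ℕ × ℕ) := [([0,1,0,1,0,1,0,1,0,1],1860),
  ([0,1,0,1,0,1,0,1,0,1],1512),
  ([0,1,0,1,0,1,0,0,1,0,1,0,1,0,1,0,0,1],120),
  ([0,1,0,0,1,0,1,0,1,0,1,0,0,1,0,1,0,1],1740),
  ([0,0,0,0,1,0,0,0,0,1,0,0,0,0,1,0,0,0,0,1,0,0,0,0,1,0,0,0,0,1,0,0,0,0,1,0,0,0,0,1,0,0,0,0,1],1248),
  ([0,0,0,1,0,1,0,1,0,0,0,1,0,1,0,1,0,0,0,1,0,1,0,1,0,0,0,1,0,1,0,1,0,0,0,1,0,1,0,1],1884),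
  ([0,0,1,0,0,1,0,0,1,0,0,1,0,0,1,0,0,1,0,0,1,0,0,1,0,0,1,0,0,1,0,0,1,0,0,1],912),
  ([0,0,0,1,0,1,0,1,0,0,0,1,0,1,0,1,0,0,0,1,0,1,0,1,0,0,0,1,0,1,0,1,0,0,0,1,0,1,0,1],3120),
  ([0,0,0,1,0,1,0,0,1,0,0,0,1,0,1,0,0,1,0,0,0,1,0,1,0,0,1,0,0,0,1,0,1,0,0,1,0,0,0,1,0,1,0,0,1,0,0,0,1,0,1,0,0,1,0,0,0,1,0,1,0,0,1,0,0,0,1,0,1,0,0,1],2412)]
noncomputable def uu : List (List ℕ) := [[],
  [6],
  [6,6],
  [6,13,11,18,15,18,25,21,21,27,29,34,36],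
  [7],
  [7,7],
  [7,7,7],
  [7,11,11,16,19,17,23,21,21,30,28,29,31,33,34,33],
  [11,11,16,19,17,23,21,21,30,28,29,31,33,34,33],
  [12,12,7,24,22,30,28,30,27,31,34,33,35],
  [13,11,18,15,18,25,21,21,27,29,34,36]]
noncomputable def wT : Tr ℕ := (.node (.node (.node (.node (.node (.leaf w0) (.leaf w16)) (.leaf w8)) (.node (.node (.leaf w4) (.leaf w20)) (.leaf w12))) (.node (.node (.node (.leaf w2) (.leaf w18)) (.leaf w10)) (.node (.leaf w6) (.leaf w14)))) (.node (.node (.node (.node (.leaf w1) (.leaf w17)) (.leaf w9)) (.node (.node (.leaf w5) (.leaf w21)) (.leaf w13))) (.node (.node (.node (.leaf w3) (.leaf w19)) (.leaf w11)) (.node (.leaf w7) (.leaf w15)))))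
noncomputable def en : Enum := ⟨inv, 8, 255, 4, fun i => force (Nat.shiftRight i 10) fun c => look 0xffffffff (wT.get c) (Nat.mul 32 (Nat.land i 1023)), 8, [120,1176,2412,2592,1332], 4096⟩
noncomputable def tst : (ℕ → ℕ) → Bool := outTest (appT tabs t67 0xfff) bs aK rT [(6, 8), (6, 66)] uu
noncomputable def imgL : List (List ℕ) := [[],
  [],
  [],
  [],
  [],
  [],
  [],
  [],
  [],
  [],
  [],
  [],
  [],
  [],
  [],
  [],
  [],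
  [],
  [],
  [],
  [],
  [],
  [],
  [],
  [],
  [],
  [],
  [],
  [],
  [],
  [],
  [],
  [],
  [],
  [],
  [],
  [],
  [6,11,17,20,16,22,30,34],
  [12,14,9,17,15,15,25,24,29,28,29,33,35],
  [11,10,13,17,17,15,22,25,24,29,27,30,27,34,33,36],
  [14,11,10,20,17,15,25,24,22,29,33,36],
  [17,17,19,22,25,29,28,30,27],
  [8,13,15,20,25,24,22,29,28,29,31,33,36],
  [8,13,17,20,15,15,23,29,27,30,27,34,33,35],
  [17,19,30,27,29,31,33,34],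
  [26,23,29,27,30,27,31,33],
  [19,16,20,15,25,24,27,30,27,31,33,34],
  [9,11,17,16,17,23,25,24,33,34,33,36]]
noncomputable def img (a : ℕ) : List ℕ := nth imgL [] a
noncomputable def nQ : List (List ℕ) := [[],
  [1,0,0,0,1,0],
  [0,1,0,0,0,1,0,0,0,1,0],
  [0,0,0,0,1,0,1,0],
  [0,1,0,1,0,1,0],
  [1,0,0,0,0,1,0,1,0],
  [0,1,0,0,0,0,0,0,0,1]]

end Cfsg.Agent.CG.McL
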