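import Cfsg.Agent.Lib.Grp.McL.OC0
import Cfsg.Agent.Lib.Grp.McL.Main

set_option autoImplicit false
set_option maxRecDepth 100000
set_option Elab.async false

namespace Cfsg.Agent.CG.McL

theorem chainC : ChainOK act cc [] :=
  chainOK_of_chk act cc [] (by simp) (okc_of_okcb Oc145) Oc146
  (allL_cons Oc141 (allL_cons Oc142 (allL_cons Oc143 (allL_cons Oc144 (allL_nil _)))))

theorem chainP : ChainOK act pc [] :=
  chainOK_of_chk act pc [] (by simp) (okc_of_okcb Oc154) Oc155
  (allL_cons Oc152 (allL_cons Oc153 (allL_nil _)))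

theorem boundsP : Bounds tpR pS (2 ^ 7) :=
  (show prodTC tp = 2 ^ 7 by decide +kernel) ▸ bounds_of_chain Oc151
  (allL_cons Oc147 (allL_cons Oc149 (allL_nil _)))
  (allL_cons Oc148 (allL_cons Oc150 (allL_nil _)))

theorem cardP : Nat.card (cl act.gen pS) = 2 ^ 7 :=
  card_cl_eq chainP (by decide +kernel) boundsP (base.rels Oc156) (by decide +kernel)

theorem centP : ∀ g ∈ Subgroup.centralizer (cl act.gen pS : Set PG), ∃ φ ∈ pF, g = ev act.gen φ :=
  centralizer_subset (l := mc0) (L := [mc1, mc2, mc3, mc4, mc5, mc6]) chain card_le base (Q := pQ) (Rf := pR) (by decide +kernel) (by decide +kernel) (by decide +kernel)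
    Oc157

theorem autT (φ : MulAut PG) : ∃ g : PG, φ (act.gen 8) = g * act.gen 8 * g⁻¹ :=
  aut_class base (r := 2) (by norm_num) cardP (not_dvd_of_eq card (by decide +kernel)) centP
    Oc158 φ

theorem autA (φ : MulAut PG) : ∃ g : PG, ∃ a' ∈ aK, g * φ (act.gen 6) * g⁻¹ = act.gen a' :=
  aut_pow base (p := 11) (by norm_num) (not_dvd_of_eq card (by decide +kernel))
    Oc159 φ

theorem enumOK : en.OK app tst 0 22275 0 925714888899723385 :=
  (Enum.OK.append (Enum.OK.append (Enum.OK.append (Enum.OK.append (Enum.OK.append (Enum.OK.append (Enum.OK.append (Enum.ok_of_chk Oc160)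
  (Enum.ok_of_chk Oc161))
  (Enum.ok_of_chk Oc162))
  (Enum.ok_of_chk Oc163))
  (Enum.ok_of_chk Oc164))
  (Enum.ok_of_chk Oc165))
  (Enum.ok_of_chk Oc166))
  (Enum.ok_of_chk Oc167))

theorem cent_le : prodN cc ≤ Nat.card (Subgroup.centralizer {act.gen 8}) :=
  le_card_centralizer base chainC Oc168

theorem classAll (g : PG) : ∃ f, act.Rep (g * act.gen 8 * g⁻¹) f ∧ tst f = true :=
  Enum.OK.all (A := act) (E := en) enumOK hinv (okc_of_okcb (n := 275) (w := 12) (by decide +kernel)) cent_le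
    (card ▸ (ble_iff _ _).1 (by decide +kernel)) g

theorem autPair (φ : MulAut PG) : ∃ s ∈ [(6, 8), (6, 66)], ∃ g : PG, φ (act.gen 6) = g * act.gen s.1 * g⁻¹ ∧ φ (act.gen 8) = g * act.gen s.2 * g⁻¹ :=
  aut_pair base Oc169 (okc_of_okcb (n := 275) (w := 12) (by decide +kernel)) autA autT classAll φ

theorem sigma : ∃ σ : MulAut PG, σ (act.gen 6) = act.gen 6 ∧ σ (act.gen 8) = act.gen 66 :=
  exists_aut' base bounds rels clS card.ge (img := img)
    (allL_cons Oc170 (allL_cons Oc171 (allL_cons Oc172 (allL_cons Oc173 (allL_cons Oc174 (allL_cons Oc175 (allL_cons Oc176 (allL_cons Oc177 (allL_cons Oc178 (allL_cons Oc179 (allL_cons Oc180 (allL_cons Oc181 (allL_cons Oc182 (allL_cons Oc183 (allL_cons Oc184 (allL_cons Oc185 (allL_cons Oc186 (allL_cons Oc187 (allL_cons Oc188 (allL_cons Oc189 (allL_cons Oc190 (allL_cons Oc191 (allL_cons Oc192 (allL_cons Oc193 (allL_cons Oc194 (allL_cons Oc195 (allL_cons Oc196 (allL_cons Oc197 (allL_cons Oc198 (allL_cons Oc199 (allL_cons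 Oc200 (allL_cons Oc201 (allL_cons Oc202 (allL_cons Oc203 (allL_cons Oc204 (allL_cons Oc205 (allL_cons Oc206 (allL_cons Oc207 (allL_cons Oc208 (allL_cons Oc209 (allL_cons Oc210 (allL_cons Oc211 (allL_cons Oc212 (allL_cons Oc213 (allL_cons Oc214 (allL_cons Oc215 (allL_nil _)))))))))))))))))))))))))))))))))))))))))))))))
    clAT (va := [38,44,47,44,40,46,37,45,43,44,42,41,40,38]) (vt := [44,40,47,37,44,38,46,43,39,45,43,38,44,39]) (wa := [38,44,47,44,40,46,37,45,43,44,42,41,40,38]) (wt := [40,45,42,37,47,44,45,38,46,39,38,45,37,44,37]) (by decide +kernel) (by decide +kernel)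

theorem card_out : Nat.card (Out PG) = 2 := by
  obtain ⟨σ, h1, h2⟩ := sigma
  exact card_out_eq_two clAT σ h1 h2 (not_conj_pair (l := mc0) (L := [mc1, mc2, mc3, mc4, mc5, mc6]) chain card_le base (Q := nQ) (Rf := [[0], [1]]) (by decide +kernel)
    Oc216) autPair

end Cfsg.Agent.CG.McL
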